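import Mathlib.AlgebraicGeometry.Morphisms.FiniteType
import Mathlib.AlgebraicGeometry.Morphisms.Integral
import Mathlib.AlgebraicGeometry.Noetherian
import Mathlib.RingTheory.Adjoin.Tower

/-!
# Artin–Tate for schemes
-/

set_option autoImplicit false
set_option backward.isDefEq.respectTransparency false
set_option backward.isDefEq.respectTransparency.types false

universe u

open CategoryTheory CategoryTheory.Limits AlgebraicGeometry

namespace Groth.Agent.GrpdLib.Cover4088

theorem finiteType_of_comp_of_injective {A B C : Type*} [CommRing A] [CommRing B] [CommRing C]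
    [IsNoetherianRing A] (f : A →+* B) (g : B →+* C) (hg : g.IsIntegral)
    (hgi : Function.Injective g) (h : (g.comp f).FiniteType) : f.FiniteType := by
  have hgfin : g.Finite := RingHom.IsIntegral.to_finite hg (RingHom.FiniteType.of_comp_finiteType h)
  algebraize [f, g, g.comp f]
  show Algebra.FiniteType A B
  exact ⟨fg_of_fg_of_fg A B C ‹Algebra.FiniteType A C›.out ‹Module.Finite B C›.fg_top hgi⟩

/-- A scheme with an injective integral cover of finite type over a Noetherian base is of finite
type. -/
theorem locallyOfFiniteType_of_integral_injective {X Y S : Scheme.{u}} (f : X ⟶ Y) (g : Y ⟶ S)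
    [IsIntegralHom f] [IsLocallyNoetherian S] [LocallyOfFiniteType (f ≫ g)]
    (hf : ∀ V : Y.Opens, Function.Injective (f.app V)) : LocallyOfFiniteType g := by
  rw [HasRingHomProperty.iff_appLE (P := @LocallyOfFiniteType)]
  intro U V e
  have hV : IsAffineOpen (f ⁻¹ᵁ V.1) := V.2.preimage f
  have : IsNoetherianRing Γ(S, U.1) := IsLocallyNoetherian.component_noetherian U
  have h := HasRingHomProperty.appLE (P := @LocallyOfFiniteType) (f ≫ g) inferInstance U
    ⟨f ⁻¹ᵁ V.1, hV⟩ (f.preimage_mono e)
  have key : (f ≫ g).appLE U.1 (f ⁻¹ᵁ V.1) (f.preimage_mono e) = g.appLE U.1 V.1 e ≫ f.app V.1 := by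
    rw [Scheme.Hom.app_eq_appLE, Scheme.Hom.appLE_comp_appLE]
  rw [key, CommRingCat.hom_comp] at h
  exact finiteType_of_comp_of_injective _ _ (f.isIntegral_app V.1 V.2) (hf V.1) h

end Groth.Agent.GrpdLib.Cover4088
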