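import Groth.Agent.GrpdLib.Cover4088.FromQuot
import Groth.Agent.GrpdLib.QuasiSection

/-!
# The quotient by a quasi-section is a coequalizer over every open of the base
-/

set_option autoImplicit false
set_option backward.isDefEq.respectTransparency false
set_option backward.isDefEq.respectTransparency.types false

universe u

open CategoryTheory CategoryTheory.Limits AlgebraicGeometry

namespace Groth.Agent.GrpdLib.Cover4088

variable {S : Scheme.{u}} {G : Grpd.GroupoidScheme S}

section

variable {U' : Scheme.{u}} {u : U' ⟶ G.U} (h : IsQuasiSection G u)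
include h

lemma isGQ_p' : IsGQ h.G' (𝟙 h.G'.U) h.p' := isGQ_quotMap h.orbitsInAffines

theorem isGQ_p [IsImmersion u] (ht : IsOpenMap G.t) : IsGQ G (𝟙 G.U) h.p where
  inv := fun r a b ha hb => by
    rw [Category.comp_id] at ha hb
    rw [← ha, ← hb, Category.assoc, h.p_condition, Category.assoc]
  surj := h.surjective_p
  isOpenMap := h.isOpenMap_p ht
  fibre := fun x y hxy => by
    obtain ⟨z, hz₁, hz₂⟩ := Scheme.Pullback.exists_preimage_pullback (f := h.p) (g := h.p) x y hxy
    obtain ⟨r, hr⟩ := h.surjective_lift_p z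
    refine ⟨r, ?_, ?_⟩
    · show G.t r = x
      rw [← hz₁, ← hr, ← Scheme.Hom.comp_apply, pullback.lift_fst]
    · show G.s r = y
      rw [← hz₂, ← hr, ← Scheme.Hom.comp_apply, pullback.lift_snd]
  desc := by
    intro O P Z l _ l' q sq g hg
    rw [Category.comp_id] at hg
    have hm : (pullback.fst l h.p' : pullback l h.p' ⟶ O) ≫ l = (pullback.snd l h.p' ≫ u) ≫ h.p := by
      rw [Category.assoc, h.u_p, pullback.condition]
    let m : pullback l h.p' ⟶ P := sq.lift _ _ hm
    have hinv : InvMor h.G' (pullback.snd l h.p' ≫ 𝟙 h.G'.U) (m ≫ g) := by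
      intro T r a b ha hb
      have ha' : (r : T ⟶ rmR G u) ≫ rmT G u = a ≫ pullback.snd l h.p' :=
        ha.trans (congrArg (a ≫ ·) (Category.comp_id _))
      have hb' : (r : T ⟶ rmR G u) ≫ rmS G u = b ≫ pullback.snd l h.p' :=
        hb.trans (congrArg (b ≫ ·) (Category.comp_id _))
      rw [← Category.assoc a, ← Category.assoc b]
      refine hg ((r : T ⟶ rmR G u) ≫ rmι G u) _ _ ?_ ?_
      · rw [Category.assoc, Category.assoc, rmι_t, ← Category.assoc]
        rw [ha']
        rw [IsPullback.lift_snd, Category.assoc]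
      · rw [Category.assoc, Category.assoc, rmι_s, ← Category.assoc]
        rw [hb']
        rw [IsPullback.lift_snd, Category.assoc]
    obtain ⟨χ, hχ⟩ := (isGQ_p' h).desc l (pullback.snd l h.p') (pullback.fst l h.p')
      (IsPullback.of_hasPullback l h.p') (m ≫ g) hinv
    refine ⟨χ, (h.cov_sV.fst l').hom_ext ?_⟩
    let n : pullback l' (sV G u) ⟶ pullback l h.p' :=
      pullback.lift (pullback.fst l' (sV G u) ≫ q) (pullback.snd l' (sV G u) ≫ pullback.snd G.t u) (by
        rw [Category.assoc, sq.w, pullback.condition_assoc, h.sV_p, Category.assoc])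
    have hn : pullback.fst l' (sV G u) ≫ q = n ≫ pullback.fst l h.p' := (pullback.lift_fst _ _ _).symm
    rw [reassoc_of% hn, hχ, ← Category.assoc n]
    refine hg (pullback.snd l' (sV G u) ≫ pullback.fst G.t u) _ _ ?_ ?_
    · rw [Category.assoc, Category.assoc, pullback.condition, IsPullback.lift_snd,
        pullback.lift_snd_assoc, Category.assoc]
    · rw [Category.assoc, pullback.condition]
      rfl
  ext := by
    intro O P l _ l' q sq
    have hm : (pullback.fst l h.p' : pullback l h.p' ⟶ O) ≫ l = (pullback.snd l h.p' ≫ u) ≫ h.p := by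
      rw [Category.assoc, h.u_p, pullback.condition]
    have := (isGQ_p' h).ext l (pullback.snd l h.p') (pullback.fst l h.p') (IsPullback.of_hasPullback l h.p')
    refine ⟨fun f g e => ?_⟩
    rw [← cancel_epi (pullback.fst l h.p'), ← sq.lift_fst _ _ hm, Category.assoc, e, Category.assoc]

end

/-- A quotient of the restriction to a saturated open is a quotient of that open. -/
theorem isGQ_of_restrict (W : G.U.Opens) (hW : G.s ⁻¹ᵁ W = G.t ⁻¹ᵁ W) {Y : Scheme.{u}}
    {p : (W : Scheme.{u}) ⟶ Y} (h : IsGQ (restrict G W hW) (𝟙 (W : Scheme.{u})) p) : IsGQ G W.ι p := by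
  have lift : ∀ {T : Scheme.{u}} (r : T ⟶ G.R) (a b : T ⟶ (W : Scheme.{u})), r ≫ G.t = a ≫ W.ι →
      r ≫ G.s = b ≫ W.ι → ∃ r' : T ⟶ (restrict G W hW).R,
        r' ≫ (restrict G W hW).t = a ∧ r' ≫ (restrict G W hW).s = b := by
    intro T r a b ha hb
    refine ⟨IsOpenImmersion.lift (G.s ⁻¹ᵁ W).ι r ?_, ?_, ?_⟩
    · rintro _ ⟨z, rfl⟩
      refine (Scheme.Opens.range_ι (G.s ⁻¹ᵁ W)).ge ?_
      show G.s (r z) ∈ W
      rw [← Scheme.Hom.comp_apply, hb, Scheme.Hom.comp_apply]
      exact (b z).2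
    · rw [← cancel_mono W.ι, Category.assoc, restrict_t, Scheme.Hom.resLE_comp_ι,
        IsOpenImmersion.lift_fac_assoc, ha]
    · rw [← cancel_mono W.ι, Category.assoc, restrict_s, morphismRestrict_ι,
        IsOpenImmersion.lift_fac_assoc, hb]
  have up : ∀ {X Z : Scheme.{u}} {k : X ⟶ (W : Scheme.{u})} {g : X ⟶ Z},
      InvMor G (k ≫ W.ι) g → InvMor (restrict G W hW) k g := by
    intro X Z k g hg T r a b ha hb
    refine hg (r ≫ (G.s ⁻¹ᵁ W).ι) a b ?_ ?_
    · rw [Category.assoc, ← Scheme.Hom.resLE_comp_ι G.t hW.le, ← Category.assoc a, ← ha,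
        Category.assoc, restrict_t]
    · rw [Category.assoc, ← morphismRestrict_ι G.s W, ← Category.assoc b, ← hb,
        Category.assoc, restrict_s]
  refine ⟨?_, h.surj, h.isOpenMap, ?_, ?_, fun l _ l' q sq => h.ext l l' q sq⟩
  · intro T r a b ha hb
    obtain ⟨r', h1, h2⟩ := lift r a b ha hb
    exact h.inv r' a b (by rw [h1]; exact (Category.comp_id a).symm)
      (by rw [h2]; exact (Category.comp_id b).symm)
  · intro x y hxy
    obtain ⟨r, hr₁, hr₂⟩ := h.fibre x y hxy
    refine ⟨(G.s ⁻¹ᵁ W).ι r, ?_, ?_⟩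
    · rw [← Scheme.Hom.comp_apply, ← Scheme.Hom.resLE_comp_ι G.t hW.le, Scheme.Hom.comp_apply]
      exact congrArg W.ι hr₁
    · rw [← Scheme.Hom.comp_apply, ← morphismRestrict_ι G.s W, Scheme.Hom.comp_apply]
      exact congrArg W.ι hr₂
  · intro O X' Z l _ l' q sq g hg
    refine h.desc l l' q sq g (up (k := l' ≫ 𝟙 (W : Scheme.{u})) ?_)
    rw [Category.comp_id]
    exact hg

end Groth.Agent.GrpdLib.Cover4088
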