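import Groth.Agent.GrpdLib.Cover4088.GQ
import Groth.Agent.GrpdLib.QuotientMap

/-!
# The quotient of a finite locally free groupoid is a coequalizer over every open of the base
-/

set_option autoImplicit false
set_option backward.isDefEq.respectTransparency false
set_option backward.isDefEq.respectTransparency.types false

universe u

open CategoryTheory CategoryTheory.Limits AlgebraicGeometry

namespace Groth.Agent.GrpdLib.Cover4088

variable {S : Scheme.{u}} {G : Grpd.GroupoidScheme S} [IsFinite G.s] [Flat G.s]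
  [LocallyOfFinitePresentation G.s] (hG : OrbitsInAffines G)
include hG

section

variable {O P : Scheme.{u}} {l : O ⟶ quot G} [IsOpenImmersion l] {l' : P ⟶ G.U} {q : P ⟶ O}

lemma exists_piece (sq : IsPullback q l' l (quotMap hG)) (y : O) :
    ∃ (i : InvAff G) (a : i.Y ⟶ O) (b : (i.1 : Scheme.{u}) ⟶ P) (z : i.Y),
      IsOpenImmersion a ∧ a ≫ l = i.incl ∧ b ≫ l' = i.1.ι ∧ b ≫ q = i.q ≫ a ∧ a z = y := by
  have hl' : IsOpenImmersion l' :=
    MorphismProperty.of_isPullback (P := @IsOpenImmersion) sq inferInstance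
  obtain ⟨x, hx⟩ := surjective_quotMap hG (l y)
  have hmem : ∀ z, quotMap hG z ∈ l.opensRange → z ∈ l'.opensRange := by
    rintro z ⟨w, hw⟩
    obtain ⟨v, -, hv⟩ := Scheme.exists_preimage_of_isPullback sq w z hw
    exact ⟨v, hv⟩
  obtain ⟨i₀, hi₀⟩ := exists_invAff hG x
  obtain ⟨i, hxi, hiV, -⟩ := exists_invAff_le (V := l'.opensRange) (fun r hr => hmem _ ⟨y, by
    rw [← hx]; exact ((quotMap_eq_iff hG _ _).mpr ⟨r, rfl, hr⟩).symm⟩) i₀ hi₀
  let b : (i.1 : Scheme.{u}) ⟶ P := IsOpenImmersion.lift l' i.1.ι (by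
    rw [Scheme.Opens.range_ι]; exact hiV)
  have hb : b ≫ l' = i.1.ι := IsOpenImmersion.lift_fac _ _ _
  have hrange : Set.range i.incl ⊆ Set.range l := by
    rintro _ ⟨z, rfl⟩
    obtain ⟨w, rfl⟩ := i.isAffQuot.surj z
    refine ⟨q (b w), ?_⟩
    rw [← Scheme.Hom.comp_apply, ← Scheme.Hom.comp_apply, sq.w, reassoc_of% hb, ι_quotMap,
      Scheme.Hom.comp_apply]
  let a : i.Y ⟶ O := IsOpenImmersion.lift l i.incl hrange
  have ha : a ≫ l = i.incl := IsOpenImmersion.lift_fac _ _ _
  have : IsOpenImmersion (a ≫ l) := by rw [ha]; infer_instance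
  have : IsOpenImmersion a := IsOpenImmersion.of_comp a l
  refine ⟨i, a, b, i.q ⟨x, hxi⟩, this, ha, hb, ?_, l.isOpenEmbedding.injective ?_⟩
  · rw [← cancel_mono l, Category.assoc, Category.assoc, sq.w, reassoc_of% hb, ι_quotMap, ha]
  · rw [← Scheme.Hom.comp_apply a l, ha, ← quotMap_apply hG]
    exact hx

omit hG in
lemma piece_desc (i : InvAff G) (b : (i.1 : Scheme.{u}) ⟶ P) (hb : b ≫ l' = i.1.ι)
    {Z : Scheme.{u}} (g : P ⟶ Z) (hg : InvMor G l' g) : ∃ χ : i.Y ⟶ Z, i.q ≫ χ = b ≫ g := by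
  refine i.isAffQuot.exists_desc _ ?_
  have := hg (G.s ⁻¹ᵁ i.1).ι (G.t.resLE i.1 (G.s ⁻¹ᵁ i.1) i.2.2.le ≫ b) (G.s ∣_ i.1 ≫ b)
    (by rw [Category.assoc, hb, Scheme.Hom.resLE_comp_ι])
    (by rw [Category.assoc, hb, morphismRestrict_ι])
  simpa using this

end

theorem isGQ_quotMap : IsGQ G (𝟙 G.U) (quotMap hG) where
  inv := fun r a b ha hb => by
    rw [Category.comp_id] at ha hb
    rw [← ha, ← hb, Category.assoc, quotMap_condition, Category.assoc]
  surj := ⟨surjective_quotMap hG⟩
  isOpenMap := isOpenMap_quotMap hG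
  fibre := fun x y h => (quotMap_eq_iff hG x y).mp h
  desc := by
    intro O P Z l _ l' q sq g hg
    rw [Category.comp_id] at hg
    have := MorphismProperty.of_isPullback (P := @IsOpenImmersion) sq ‹_›
    choose i a b z ha hal hb hbq hz using exists_piece hG sq
    choose χ hχ using fun y => piece_desc (i y) (b y) (hb y) g hg
    let 𝒰 : O.OpenCover := Scheme.Cover.mkOfCovers O (fun y => (i y).Y) a
      (fun y => ⟨y, z y, hz y⟩) ha
    have hagree : ∀ y y' : O, pullback.fst (a y) (a y') ≫ χ y = pullback.snd (a y) (a y') ≫ χ y' := by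
      intro y y'
      have hw : ∀ w : (pullback (a y) (a y') :), ∃ (j : InvAff G) (_ : j ≤ i y) (_ : j ≤ i y')
          (m : j.Y ⟶ pullback (a y) (a y')) (v : j.Y), IsOpenImmersion m ∧
          m ≫ pullback.fst _ _ ≫ χ y = m ≫ pullback.snd _ _ ≫ χ y' ∧ m v = w := by
        intro w
        have hw' : (i y).incl (pullback.fst (a y) (a y') w) =
            (i y').incl (pullback.snd (a y) (a y') w) := by
          rw [← hal, ← hal, ← Scheme.Hom.comp_apply, ← Scheme.Hom.comp_apply, pullback.condition_assoc]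
        obtain ⟨j, f, f', v, hv, hv'⟩ :=
          (Scheme.IsLocallyDirected.ι_eq_ι_iff (diagram G)).mp hw'
        change mapY (leOfHom f) v = _ at hv
        have hjm : mapY (leOfHom f) ≫ a y = mapY (leOfHom f') ≫ a y' := by
          rw [← cancel_mono l, Category.assoc, Category.assoc, hal, hal, mapY_incl, mapY_incl]
        let m : j.Y ⟶ pullback (a y) (a y') := pullback.lift _ _ hjm
        have := ha y'
        have : IsOpenImmersion (mapY (leOfHom f)) := isOpenImmersion_mapY _
        have : IsOpenImmersion (m ≫ pullback.fst (a y) (a y')) := by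
          rw [pullback.lift_fst]; infer_instance
        have : IsOpenImmersion m := IsOpenImmersion.of_comp m (pullback.fst (a y) (a y'))
        refine ⟨j, leOfHom f, leOfHom f', m, v, this, j.isAffQuot.hom_ext ?_,
          (pullback.fst (a y) (a y')).isOpenEmbedding.injective ?_⟩
        · rw [pullback.lift_fst_assoc, pullback.lift_snd_assoc, q_mapY_assoc, q_mapY_assoc, hχ, hχ]
          have e : G.U.homOfLE (leOfHom f) ≫ b y = G.U.homOfLE (leOfHom f') ≫ b y' := by
            rw [← cancel_mono l', Category.assoc, Category.assoc, hb, hb, Scheme.homOfLE_ι,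
              Scheme.homOfLE_ι]
          rw [reassoc_of% e]
        · rw [← Scheme.Hom.comp_apply m, pullback.lift_fst]
          exact hv
      choose j _ _ m v hm he hmv using hw
      exact Scheme.Cover.hom_ext (Scheme.Cover.mkOfCovers (P := @IsOpenImmersion) _
        (fun w => (j w).Y) m (fun w => ⟨w, v w, hmv w⟩) hm) _ _ he
    refine ⟨𝒰.glueMorphisms χ hagree, ?_⟩
    have hcov : ∀ w : P, ∃ (y : O) (x : ((i y).1 : Scheme.{u})), b y x = w := by
      intro w
      refine ⟨q w, ?_⟩
      obtain ⟨x, hx⟩ := (i (q w)).isAffQuot.surj (z (q w))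
      have hl : quotMap hG (l' w) = (i (q w)).incl ((i (q w)).q x) := by
        rw [← Scheme.Hom.comp_apply, ← sq.w, Scheme.Hom.comp_apply, hx, ← hal, Scheme.Hom.comp_apply, hz]
      obtain ⟨v, hv⟩ : l' w ∈ (i (q w)).1.ι.opensRange := by
        rw [← preimage_opensRange_incl hG]
        exact ⟨_, hl.symm⟩
      refine ⟨v, l'.isOpenEmbedding.injective ?_⟩
      rw [← Scheme.Hom.comp_apply, hb]; exact hv
    choose y x hx using hcov
    have hbo : ∀ w, IsOpenImmersion (b (y w)) := fun w => by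
      have : IsOpenImmersion (b (y w) ≫ l') := by rw [hb]; infer_instance
      exact IsOpenImmersion.of_comp _ l'
    refine Scheme.Cover.hom_ext (Scheme.Cover.mkOfCovers (P := @IsOpenImmersion) P
      (fun w => ((i (y w)).1 : Scheme.{u})) (fun w => b (y w)) (fun w => ⟨w, x w, hx w⟩) hbo) _ _
      fun w => ?_
    show b (y w) ≫ q ≫ _ = b (y w) ≫ g
    rw [reassoc_of% (hbq (y w)), ← hχ (y w)]
    exact congrArg ((i (y w)).q ≫ ·) (Scheme.Cover.ι_glueMorphisms 𝒰 χ hagree (y w))
  ext := by
    intro O P l _ l' q sq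
    choose i a b z ha hal hb hbq hz using exists_piece hG sq
    refine ⟨fun f g e => Scheme.Cover.hom_ext (Scheme.Cover.mkOfCovers (P := @IsOpenImmersion) O
      (fun y => (i y).Y) a (fun y => ⟨y, z y, hz y⟩) ha) _ _ fun y => (i y).isAffQuot.hom_ext ?_⟩
    show (i y).q ≫ a y ≫ f = (i y).q ≫ a y ≫ g
    rw [← reassoc_of% (hbq y), e, reassoc_of% (hbq y)]

end Groth.Agent.GrpdLib.Cover4088
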