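import Groth.Agent.GrpdLib.Restrict
import Groth.Agent.GrpdLib.Slice16047.Coeq
import Mathlib.AlgebraicGeometry.Morphisms.Basic

/-!
# Quotients which are coequalizers over every open of the base
-/

set_option autoImplicit false
set_option backward.isDefEq.respectTransparency false
set_option backward.isDefEq.respectTransparency.types false

universe u

open CategoryTheory CategoryTheory.Limits AlgebraicGeometry

namespace Groth.Agent.GrpdLib.Cover4088

variable {S : Scheme.{u}} (G : Grpd.GroupoidScheme S)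

/-- A morphism out of a scheme over `U` which identifies the two ends of every arrow. -/
def InvMor {X Z : Scheme.{u}} (k : X ⟶ G.U) (g : X ⟶ Z) : Prop :=
  ∀ {T : Scheme.{u}} (r : T ⟶ G.R) (a b : T ⟶ X),
    r ≫ G.t = a ≫ k → r ≫ G.s = b ≫ k → a ≫ g = b ≫ g

/-- A quotient which stays a coequalizer over every open of the base. -/
structure IsGQ {X Y : Scheme.{u}} (k : X ⟶ G.U) (p : X ⟶ Y) : Prop where
  inv : InvMor G k p
  surj : Surjective p
  isOpenMap : IsOpenMap p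
  fibre : ∀ x y : X, p x = p y → Rel G (k x) (k y)
  desc : ∀ {O X' Z : Scheme.{u}} (l : O ⟶ Y) [IsOpenImmersion l] (l' : X' ⟶ X) (q : X' ⟶ O),
    IsPullback q l' l p → ∀ g : X' ⟶ Z, InvMor G (l' ≫ k) g → ∃ χ : O ⟶ Z, q ≫ χ = g
  ext : ∀ {O X' : Scheme.{u}} (l : O ⟶ Y) [IsOpenImmersion l] (l' : X' ⟶ X) (q : X' ⟶ O),
    IsPullback q l' l p → Epi q

variable {G}

lemma InvMor.comp {X X' Z : Scheme.{u}} {k : X ⟶ G.U} {g : X ⟶ Z} (h : InvMor G k g)
    (l : X' ⟶ X) : InvMor G (l ≫ k) (l ≫ g) := fun r a b ha hb => by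
  have := h r (a ≫ l) (b ≫ l) (by rw [ha, Category.assoc]) (by rw [hb, Category.assoc])
  simpa using this

lemma InvMor.postcomp {X Z Z' : Scheme.{u}} {k : X ⟶ G.U} {g : X ⟶ Z} (h : InvMor G k g)
    (m : Z ⟶ Z') : InvMor G k (g ≫ m) := fun r a b ha hb => by
  rw [reassoc_of% (h r a b ha hb)]

namespace IsGQ

variable {X Y : Scheme.{u}} {k : X ⟶ G.U} {p : X ⟶ Y} (h : IsGQ G k p)
include h

lemma hom_ext {Z : Scheme.{u}} {f g : Y ⟶ Z} (e : p ≫ f = p ≫ g) : f = g := by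
  have := h.ext (𝟙 Y) (𝟙 X) p (IsPullback.of_vert_isIso ⟨by simp⟩)
  exact (cancel_epi p).mp e

lemma exists_desc {Z : Scheme.{u}} (g : X ⟶ Z) (hg : InvMor G k g) : ∃ χ : Y ⟶ Z, p ≫ χ = g :=
  h.desc (𝟙 Y) (𝟙 X) p (IsPullback.of_vert_isIso ⟨by simp⟩) g (by rwa [Category.id_comp])

/-- Base change along an open immersion into the base. -/
lemma restrict {O X' : Scheme.{u}} (l : O ⟶ Y) [IsOpenImmersion l] (l' : X' ⟶ X) (q : X' ⟶ O)
    (sq : IsPullback q l' l p) : IsGQ G (l' ≫ k) q := by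
  have : IsOpenImmersion l' := MorphismProperty.of_isPullback (P := @IsOpenImmersion) sq inferInstance
  refine ⟨?_, MorphismProperty.of_isPullback (P := @Surjective) sq.flip h.surj, ?_, ?_, ?_, ?_⟩
  · intro T r a b ha hb
    rw [← cancel_mono l, Category.assoc, Category.assoc, sq.w]
    exact (InvMor.comp h.inv l') r a b ha hb
  · intro A hA
    have e : q '' A = l ⁻¹' (p '' (l' '' A)) := by
      ext y
      constructor
      · rintro ⟨x, hx, rfl⟩
        exact ⟨l' x, ⟨x, hx, rfl⟩, by rw [← Scheme.Hom.comp_apply, ← sq.w, Scheme.Hom.comp_apply]⟩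
      · rintro ⟨_, ⟨x, hx, rfl⟩, hy⟩
        refine ⟨x, hx, l.isOpenEmbedding.injective ?_⟩
        rw [← hy, ← Scheme.Hom.comp_apply, sq.w, Scheme.Hom.comp_apply]
    rw [e]
    exact (h.isOpenMap _ (l'.isOpenEmbedding.isOpenMap _ hA)).preimage l.continuous
  · intro x y hxy
    refine h.fibre (l' x) (l' y) ?_
    rw [← Scheme.Hom.comp_apply, ← Scheme.Hom.comp_apply, ← sq.w, Scheme.Hom.comp_apply, hxy,
      Scheme.Hom.comp_apply]
  · intro O' X'' Z m _ m' q' sq' g hg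
    exact h.desc (m ≫ l) (m' ≫ l') q' (sq'.paste_vert sq) g (by rwa [Category.assoc])
  · intro O' X'' m _ m' q' sq'
    exact h.ext (m ≫ l) (m' ≫ l') q' (sq'.paste_vert sq)

/-- Two quotients of the same scheme are isomorphic. -/
lemma exists_iso {Y' : Scheme.{u}} {p' : X ⟶ Y'} (h' : IsGQ G k p') :
    ∃ e : Y ≅ Y', p ≫ e.hom = p' := by
  obtain ⟨a, ha⟩ := h.exists_desc p' h'.inv
  obtain ⟨b, hb⟩ := h'.exists_desc p h.inv
  exact ⟨⟨a, b, h.hom_ext (by rw [reassoc_of% ha, hb, Category.comp_id]),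
    h'.hom_ext (by rw [reassoc_of% hb, ha, Category.comp_id])⟩, ha⟩

/-- Restriction to a smaller saturated open. -/
lemma exists_restrict [IsOpenImmersion k] (W' : G.U.Opens) (hle : W' ≤ k.opensRange)
    (hs : G.s ⁻¹ᵁ W' = G.t ⁻¹ᵁ W') :
    ∃ (O : Y.Opens) (q : (W' : Scheme.{u}) ⟶ (O : Scheme.{u}))
      (i : (W' : Scheme.{u}) ⟶ X), i ≫ k = W'.ι ∧ IsPullback q i O.ι p ∧ IsGQ G W'.ι q := by
  let i : (W' : Scheme.{u}) ⟶ X := IsOpenImmersion.lift k W'.ι (by
    rw [Scheme.Opens.range_ι]; exact hle)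
  have hi : i ≫ k = W'.ι := IsOpenImmersion.lift_fac _ _ _
  have : IsOpenImmersion (i ≫ k) := by rw [hi]; infer_instance
  have : IsOpenImmersion i := IsOpenImmersion.of_comp i k
  let O : Y.Opens := ⟨p '' (k ⁻¹ᵁ W' : X.Opens), h.isOpenMap _ (k ⁻¹ᵁ W').2⟩
  have hki : ∀ z, k (i z) = z.1 := fun z => by
    rw [← Scheme.Hom.comp_apply, hi]; rfl
  have hpre : p ⁻¹ᵁ O = k ⁻¹ᵁ W' := by
    ext x
    constructor
    · rintro ⟨y, hy, hxy⟩
      obtain ⟨r, hr₁, hr₂⟩ := h.fibre y x hxy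
      show k x ∈ W'
      rw [← hr₂]
      show r ∈ G.s ⁻¹ᵁ W'
      rw [hs]
      show G.t r ∈ W'
      rw [hr₁]; exact hy
    · exact fun hx => ⟨x, hx, rfl⟩
  have hrange : i.opensRange = k ⁻¹ᵁ W' := by
    ext x
    constructor
    · rintro ⟨z, rfl⟩
      show k (i z) ∈ W'
      rw [hki]; exact z.2
    · intro hx
      exact ⟨⟨k x, hx⟩, k.isOpenEmbedding.injective (hki _)⟩
  let q : (W' : Scheme.{u}) ⟶ (O : Scheme.{u}) := IsOpenImmersion.lift O.ι (i ≫ p) (by
    rw [Scheme.Opens.range_ι]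
    rintro _ ⟨z, rfl⟩
    exact ⟨i z, show k (i z) ∈ W' by rw [hki]; exact z.2, (Scheme.Hom.comp_apply _ _ _).symm⟩)
  have hq : q ≫ O.ι = i ≫ p := IsOpenImmersion.lift_fac _ _ _
  have sq : IsPullback q i O.ι p :=
    IsOpenImmersion.isPullback _ _ _ _ hq.symm (by rw [Scheme.Opens.opensRange_ι, hpre, hrange])
  have hgq : IsGQ G W'.ι q := by
    have := h.restrict O.ι i q sq
    rwa [hi] at this
  exact ⟨O, q, i, hi, sq, hgq⟩

/-- Sections of the quotient inject. -/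
lemma app_injective (V : Y.Opens) : Function.Injective (p.app V) := by
  intro a b hab
  have := h.ext V.ι (p ⁻¹ᵁ V).ι (p ∣_ V) (isPullback_morphismRestrict p V)
  apply V.topIso.symm.commRingCatIsoToRingEquiv.injective
  show V.topIso.inv a = V.topIso.inv b
  have key : Slice16047.secHom (V.topIso.inv a) = Slice16047.secHom (V.topIso.inv b) := by
    rw [← cancel_epi (p ∣_ V), Slice16047.comp_secHom, Slice16047.comp_secHom]
    congr 1
    have e : V.topIso.inv ≫ (p ∣_ V).appTop = p.app V ≫ (p ⁻¹ᵁ V).topIso.inv := by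
      simp [Scheme.Hom.app_eq_appLE, Scheme.Opens.topIso, morphismRestrict_appLE]
    have e' : ∀ c, (p ∣_ V).appTop (V.topIso.inv c) = (p ⁻¹ᵁ V).topIso.inv (p.app V c) := fun c =>
      (CommRingCat.comp_apply _ _ c).symm.trans
        ((congrArg (fun m => m.hom c) e).trans (CommRingCat.comp_apply _ _ c))
    rw [e', e', hab]
  have := congrArg (fun m => (Scheme.Hom.appTop m) ((Scheme.ΓSpecIso Slice16047.A1.{u}).inv Polynomial.X)) key
  exact (Slice16047.secHom_appTop _).symm.trans (this.trans (Slice16047.secHom_appTop _))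

end IsGQ

end Groth.Agent.GrpdLib.Cover4088
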