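import Groth.Agent.GrpdLib.Cover4088.FromQSec
import Mathlib.AlgebraicGeometry.Morphisms.Proper
import Mathlib.AlgebraicGeometry.Morphisms.Flat

/-!
# Gluing quotients of saturated opens
-/

set_option autoImplicit false
set_option backward.isDefEq.respectTransparency false
set_option backward.isDefEq.respectTransparency.types false

universe u

open CategoryTheory CategoryTheory.Limits AlgebraicGeometry

noncomputable section

namespace Groth.Agent.GrpdLib.Cover4088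

variable {S : Scheme.{u}} (G : Grpd.GroupoidScheme S)

/-- A quotient with the properties which are local on it. -/
structure IsGood {X Y : Scheme.{u}} (k : X ⟶ G.U) (p : X ⟶ Y) : Prop extends IsGQ G k p where
  uc : UniversallyClosed p
  flat : Mono G.j → Flat p
  lft : IsLocallyNoetherian S → ∀ q : Y ⟶ S, p ≫ q = k ≫ G.pU → LocallyOfFiniteType q
  jRange : ∀ {T : Scheme.{u}} (a b : T ⟶ X), a ≫ p = b ≫ p →
    ∀ (h : (a ≫ k) ≫ G.pU = (b ≫ k) ≫ G.pU) (z : T),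
      pullback.lift (a ≫ k) (b ≫ k) h z ∈ Set.range G.j
  pb : Mono G.j → ∀ {T : Scheme.{u}} (a b : T ⟶ X), a ≫ p = b ≫ p →
    ∃ r : T ⟶ G.R, r ≫ G.t = a ≫ k ∧ r ≫ G.s = b ≫ k

lemma invMor_pU {X : Scheme.{u}} (k : X ⟶ G.U) : InvMor G k (k ≫ G.pU) := fun r a b ha hb => by
  rw [← reassoc_of% ha, ← reassoc_of% hb, G.t_over, G.s_over]

/-- Saturated opens with a good quotient. -/
abbrev GoodOpen : Type u :=
  {W : G.U.Opens // G.s ⁻¹ᵁ W = G.t ⁻¹ᵁ W ∧
    ∃ (Y : Scheme.{u}) (p : (W : Scheme.{u}) ⟶ Y), IsGood G W.ι p}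

variable {G}

lemma IsGood.exists_restrict {W W' : G.U.Opens} {Y : Scheme.{u}} {p : (W : Scheme.{u}) ⟶ Y}
    (h : IsGood G W.ι p) (hle : W' ≤ W) (hs : G.s ⁻¹ᵁ W' = G.t ⁻¹ᵁ W') :
    ∃ (O : Y.Opens) (q : (W' : Scheme.{u}) ⟶ (O : Scheme.{u})),
      IsPullback q (G.U.homOfLE hle) O.ι p ∧ IsGood G W'.ι q := by
  obtain ⟨O, q, i, hi, sq, hq⟩ := h.toIsGQ.exists_restrict W' (by rwa [Scheme.Opens.opensRange_ι]) hs
  obtain rfl : i = G.U.homOfLE hle := by rw [← cancel_mono W.ι, hi, Scheme.homOfLE_ι]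
  refine ⟨O, q, sq, hq, MorphismProperty.of_isPullback (P := @UniversallyClosed) sq.flip h.uc,
    fun hm => MorphismProperty.of_isPullback (P := @Flat) sq.flip (h.flat hm), fun hS e he => ?_,
    fun {T} a b hab h' z => ?_, fun hm {T} a b hab => ?_⟩
  obtain ⟨e₀, he₀⟩ := h.exists_desc (W.ι ≫ G.pU) (invMor_pU G W.ι)
  have := h.lft hS e₀ he₀
  obtain rfl : e = O.ι ≫ e₀ := hq.hom_ext (by
    rw [he, reassoc_of% sq.w, he₀, Scheme.homOfLE_ι_assoc])
  · infer_instance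
  · have := h.jRange (a ≫ G.U.homOfLE hle) (b ≫ G.U.homOfLE hle)
      (by rw [Category.assoc, Category.assoc, ← sq.w, reassoc_of% hab])
      (by simpa using h') z
    simpa using this
  · obtain ⟨r, h₁, h₂⟩ := h.pb hm (a ≫ G.U.homOfLE hle) (b ≫ G.U.homOfLE hle)
      (by rw [Category.assoc, Category.assoc, ← sq.w, reassoc_of% hab])
    exact ⟨r, by simpa using h₁, by simpa using h₂⟩

namespace GoodOpen

/-- The quotient of a good open. -/
def Y (j : GoodOpen G) : Scheme.{u} := j.2.2.choose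

/-- The quotient map of a good open. -/
def p (j : GoodOpen G) : (j.1 : Scheme.{u}) ⟶ j.Y := j.2.2.choose_spec.choose

lemma good (j : GoodOpen G) : IsGood G j.1.ι j.p := j.2.2.choose_spec.choose_spec

lemma t_mem (j : GoodOpen G) {r : G.R} : G.t r ∈ j.1 ↔ G.s r ∈ j.1 := by
  show r ∈ G.t ⁻¹ᵁ j.1 ↔ r ∈ G.s ⁻¹ᵁ j.1
  rw [j.2.1]

/-- The intersection of two good opens. -/
def inf (i j : GoodOpen G) : GoodOpen G :=
  ⟨i.1 ⊓ j.1, by rw [Scheme.Hom.preimage_inf, Scheme.Hom.preimage_inf, i.2.1, j.2.1],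
    have hs : G.s ⁻¹ᵁ (i.1 ⊓ j.1) = G.t ⁻¹ᵁ (i.1 ⊓ j.1) := by
      rw [Scheme.Hom.preimage_inf, Scheme.Hom.preimage_inf, i.2.1, j.2.1]
    have ⟨_, q, _, hq⟩ := i.good.exists_restrict inf_le_left hs
    ⟨_, q, hq⟩⟩

lemma inf_le_left (i j : GoodOpen G) : i.inf j ≤ i := fun _ h => h.1

lemma inf_le_right (i j : GoodOpen G) : i.inf j ≤ j := fun _ h => h.2

lemma p_eq_iff (j : GoodOpen G) (x y : (j.1 : Scheme.{u})) : j.p x = j.p y ↔ Rel G x.1 y.1 := by
  refine ⟨j.good.fibre x y, ?_⟩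
  rintro ⟨r, hr₁, hr₂⟩
  have := j.good.inv (G.s ⁻¹ᵁ j.1).ι (G.t.resLE j.1 (G.s ⁻¹ᵁ j.1) j.2.1.le) (G.s ∣_ j.1)
    (Scheme.Hom.resLE_comp_ι _ _).symm (morphismRestrict_ι _ _).symm
  let r' : (G.s ⁻¹ᵁ j.1 : G.R.Opens) := ⟨r, show G.s r ∈ j.1 by rw [hr₂]; exact y.2⟩
  have e₁ : G.t.resLE j.1 (G.s ⁻¹ᵁ j.1) j.2.1.le r' = x := by
    apply j.1.ι.isOpenEmbedding.injective
    rw [← Scheme.Hom.comp_apply, Scheme.Hom.resLE_comp_ι]; exact hr₁
  have e₂ : (G.s ∣_ j.1) r' = y := by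
    apply j.1.ι.isOpenEmbedding.injective
    rw [← Scheme.Hom.comp_apply, morphismRestrict_ι]; exact hr₂
  rw [← e₁, ← e₂, ← Scheme.Hom.comp_apply, this, Scheme.Hom.comp_apply]

lemma exists_map {i j : GoodOpen G} (h : i ≤ j) :
    ∃ φ : i.Y ⟶ j.Y, i.p ≫ φ = G.U.homOfLE h ≫ j.p :=
  i.good.exists_desc _ (fun r a b ha hb => by
    have := InvMor.comp j.good.inv (G.U.homOfLE h) r a b (by rw [ha, Scheme.homOfLE_ι])
      (by rw [hb, Scheme.homOfLE_ι])
    exact this)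

/-- The transition morphism. -/
def mapQ {i j : GoodOpen G} (h : i ≤ j) : i.Y ⟶ j.Y := (exists_map h).choose

@[reassoc]
lemma p_mapQ {i j : GoodOpen G} (h : i ≤ j) : i.p ≫ mapQ h = G.U.homOfLE h ≫ j.p :=
  (exists_map h).choose_spec

lemma isOpenImmersion_mapQ {i j : GoodOpen G} (h : i ≤ j) : IsOpenImmersion (mapQ h) := by
  obtain ⟨O, q, sq, hq⟩ := j.good.exists_restrict h i.2.1
  obtain ⟨e, he⟩ := i.good.toIsGQ.exists_iso hq.toIsGQ
  rw [show mapQ h = e.hom ≫ O.ι from i.good.hom_ext (by rw [p_mapQ, reassoc_of% he, sq.w])]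
  infer_instance

lemma p_apply_mapQ {i j : GoodOpen G} (h : i ≤ j) (x : (i.1 : Scheme.{u})) :
    mapQ h (i.p x) = j.p ⟨x.1, h x.2⟩ := by
  rw [← Scheme.Hom.comp_apply, p_mapQ, Scheme.Hom.comp_apply]
  congr 1
  apply j.1.ι.isOpenEmbedding.injective
  rw [← Scheme.Hom.comp_apply, Scheme.homOfLE_ι]
  rfl

end GoodOpen

open GoodOpen

variable (G) in
/-- The diagram of quotients. -/
def diag : GoodOpen G ⥤ Scheme.{u} where
  obj j := j.Y
  map f := mapQ (leOfHom f)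
  map_id j := j.good.hom_ext (by simp [p_mapQ])
  map_comp {i j k} f g := i.good.hom_ext (by rw [p_mapQ, p_mapQ_assoc, p_mapQ]; simp)

instance {i j : GoodOpen G} (f : i ⟶ j) : IsOpenImmersion ((diag G).map f) := isOpenImmersion_mapQ _

instance : (diag G ⋙ Scheme.forget).IsLocallyDirected := by
  constructor
  intro i j k fi fj xi xj hx
  obtain ⟨a, rfl⟩ := i.good.surj.surj xi
  obtain ⟨b, rfl⟩ := j.good.surj.surj xj
  change mapQ (leOfHom fi) (i.p a) = mapQ (leOfHom fj) (j.p b) at hx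
  rw [p_apply_mapQ, p_apply_mapQ, GoodOpen.p_eq_iff] at hx
  have hbi : b.1 ∈ i.1 := by
    obtain ⟨r, hr₁, hr₂⟩ := hx
    rw [← show G.s r = b.1 from hr₂]
    exact i.t_mem.mp (by rw [hr₁]; exact a.2)
  refine ⟨i.inf j, homOfLE (inf_le_left i j), homOfLE (inf_le_right i j),
    (i.inf j).p ⟨b.1, hbi, b.2⟩, ?_, ?_⟩
  · show mapQ (inf_le_left i j) _ = _
    rw [p_apply_mapQ, GoodOpen.p_eq_iff]
    exact (rel_equivalence G).symm hx
  · exact p_apply_mapQ (inf_le_right i j) _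

variable (G) in
/-- The glued quotient. -/
def glued : Scheme.{u} := colimit (diag G)

/-- The inclusion of a quotient. -/
def GoodOpen.incl (j : GoodOpen G) : j.Y ⟶ glued G := colimit.ι (diag G) j

instance (j : GoodOpen G) : IsOpenImmersion j.incl :=
  inferInstanceAs (IsOpenImmersion (colimit.ι (diag G) j))

@[reassoc]
lemma mapQ_incl {i j : GoodOpen G} (h : i ≤ j) : mapQ h ≫ j.incl = i.incl :=
  colimit.w (diag G) (homOfLE h)

lemma incl_mapQ_apply {i j : GoodOpen G} (h : i ≤ j) (z : i.Y) : j.incl (mapQ h z) = i.incl z := by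
  rw [← Scheme.Hom.comp_apply, mapQ_incl]

lemma incl_p_eq_iff (i j : GoodOpen G) (x : (i.1 : Scheme.{u})) (y : (j.1 : Scheme.{u})) :
    i.incl (i.p x) = j.incl (j.p y) ↔ Rel G x.1 y.1 := by
  constructor
  · intro h
    obtain ⟨k, fi, fj, z, hz₁, hz₂⟩ := (Scheme.IsLocallyDirected.ι_eq_ι_iff (diag G)).mp h
    obtain ⟨z, rfl⟩ := k.good.surj.surj z
    change mapQ (leOfHom fi) _ = _ at hz₁
    change mapQ (leOfHom fj) _ = _ at hz₂
    rw [p_apply_mapQ, GoodOpen.p_eq_iff] at hz₁ hz₂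
    exact (rel_equivalence G).trans ((rel_equivalence G).symm hz₁) hz₂
  · intro h
    have hyi : y.1 ∈ i.1 := by
      obtain ⟨r, hr₁, hr₂⟩ := h
      rw [← hr₂]; exact i.t_mem.mp (by rw [hr₁]; exact x.2)
    have a1 := congrArg i.incl (p_apply_mapQ (inf_le_left i j) ⟨y.1, hyi, y.2⟩)
    have a2 := congrArg j.incl (p_apply_mapQ (inf_le_right i j) ⟨y.1, hyi, y.2⟩)
    rw [incl_mapQ_apply] at a1 a2
    exact ((congrArg i.incl ((i.p_eq_iff x ⟨y.1, hyi⟩).mpr h)).trans a1.symm).trans a2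

variable (hcov : ∀ x : G.U, ∃ j : GoodOpen G, x ∈ j.1)
include hcov

/-- The cover by good opens. -/
def goodCover : G.U.OpenCover :=
  G.U.openCoverOfIsOpenCover (fun j : GoodOpen G => j.1)
    (TopologicalSpace.IsOpenCover.mk (eq_top_iff.mpr fun x _ =>
      TopologicalSpace.Opens.mem_iSup.mpr (hcov x)))

omit hcov in
lemma p_incl_agree (i j : GoodOpen G) :
    pullback.fst i.1.ι j.1.ι ≫ i.p ≫ i.incl = pullback.snd i.1.ι j.1.ι ≫ j.p ≫ j.incl := by
  let m : pullback i.1.ι j.1.ι ⟶ ((i.inf j).1 : Scheme.{u}) :=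
    IsOpenImmersion.lift (i.inf j).1.ι (pullback.fst i.1.ι j.1.ι ≫ i.1.ι) (by
      rintro _ ⟨z, rfl⟩
      refine (Scheme.Opens.range_ι (i.inf j).1).ge ⟨(pullback.fst i.1.ι j.1.ι z).2, ?_⟩
      rw [pullback.condition]
      exact (pullback.snd i.1.ι j.1.ι z).2)
  have hm : m ≫ (i.inf j).1.ι = pullback.fst i.1.ι j.1.ι ≫ i.1.ι := IsOpenImmersion.lift_fac _ _ _
  have h1 : m ≫ G.U.homOfLE (inf_le_left i j) = pullback.fst i.1.ι j.1.ι := by
    rw [← cancel_mono i.1.ι, Category.assoc, Scheme.homOfLE_ι, hm]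
  have h2 : m ≫ G.U.homOfLE (inf_le_right i j) = pullback.snd i.1.ι j.1.ι := by
    rw [← cancel_mono j.1.ι, Category.assoc, Scheme.homOfLE_ι, hm, pullback.condition]
  rw [← reassoc_of% h1, ← reassoc_of% h2, ← p_mapQ_assoc, ← p_mapQ_assoc, mapQ_incl, mapQ_incl]

/-- The glued quotient map. -/
def P : G.U ⟶ glued G :=
  (goodCover hcov).glueMorphisms (fun j => GoodOpen.p (G := G) j ≫ GoodOpen.incl j) p_incl_agree

@[reassoc]
lemma ι_P (j : GoodOpen G) : j.1.ι ≫ P hcov = j.p ≫ j.incl :=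
  Scheme.Cover.ι_glueMorphisms (goodCover hcov) _ _ j

lemma P_apply (j : GoodOpen G) (x : (j.1 : Scheme.{u})) : P hcov x.1 = j.incl (j.p x) := by
  rw [show P hcov x.1 = (j.1.ι ≫ P hcov) x from rfl, ι_P, Scheme.Hom.comp_apply]

lemma P_condition : G.t ≫ P hcov = G.s ≫ P hcov := by
  refine Scheme.Cover.hom_ext (Scheme.openCoverOfIsOpenCover _
    (fun j : GoodOpen G => G.s ⁻¹ᵁ j.1) (TopologicalSpace.IsOpenCover.mk (eq_top_iff.mpr fun r _ =>
      TopologicalSpace.Opens.mem_iSup.mpr (hcov (G.s r))))) _ _ fun j => ?_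
  show (G.s ⁻¹ᵁ j.1).ι ≫ G.t ≫ _ = (G.s ⁻¹ᵁ j.1).ι ≫ G.s ≫ _
  rw [← Scheme.Hom.resLE_comp_ι_assoc G.t j.2.1.le, ← morphismRestrict_ι_assoc, ι_P]
  rw [← Category.assoc, j.good.inv (G.s ⁻¹ᵁ j.1).ι _ (G.s ∣_ j.1) (Scheme.Hom.resLE_comp_ι _ _).symm
    (morphismRestrict_ι _ _).symm, Category.assoc]

lemma P_eq_iff (x y : G.U) : P hcov x = P hcov y ↔ Rel G x y := by
  obtain ⟨i, hi⟩ := hcov x
  obtain ⟨j, hj⟩ := hcov y
  exact (P_apply hcov i ⟨x, hi⟩).symm ▸ (P_apply hcov j ⟨y, hj⟩).symm ▸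
    incl_p_eq_iff i j ⟨x, hi⟩ ⟨y, hj⟩

lemma surjective_P : Surjective (P hcov) := by
  refine ⟨fun y => ?_⟩
  obtain ⟨j, z, rfl⟩ := Scheme.IsLocallyDirected.ι_jointly_surjective (diag G) y
  obtain ⟨x, rfl⟩ := j.good.surj.surj z
  exact ⟨x.1, P_apply hcov j x⟩

lemma isOpenMap_P : IsOpenMap (P hcov) := by
  intro O hO
  have : (P hcov) '' O = ⋃ j : GoodOpen G, j.incl '' (j.p '' (j.1.ι ⁻¹' O)) := by
    ext y
    simp only [Set.mem_image, Set.mem_iUnion, Set.mem_preimage]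
    constructor
    · rintro ⟨x, hx, rfl⟩
      obtain ⟨j, hj⟩ := hcov x
      exact ⟨j, _, ⟨⟨x, hj⟩, hx, rfl⟩, (P_apply hcov j ⟨x, hj⟩).symm⟩
    · rintro ⟨j, _, ⟨x, hx, rfl⟩, rfl⟩
      exact ⟨x.1, hx, P_apply hcov j x⟩
  rw [this]
  exact isOpen_iUnion fun j => j.incl.isOpenEmbedding.isOpenMap _
    (j.good.isOpenMap _ (hO.preimage j.1.ι.continuous))

/-- The glued quotient is a coequalizer of schemes. -/
def isColimitP : IsColimit (Cofork.ofπ (P hcov) (P_condition hcov)) :=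
  Cofork.IsColimit.mk' _ fun c => by
    have hd : ∀ j : GoodOpen G, ∃ f : j.Y ⟶ c.pt, j.p ≫ f = j.1.ι ≫ c.π := fun j =>
      j.good.exists_desc _ (fun r a b ha hb => by
        rw [← reassoc_of% ha, ← reassoc_of% hb, c.condition])
    choose f hf using hd
    let cc : Cocone (diag G) :=
      { pt := c.pt
        ι :=
          { app := f
            naturality := fun i j φ => i.good.hom_ext (by
              dsimp [diag]
              rw [p_mapQ_assoc, hf, Scheme.homOfLE_ι_assoc, Category.comp_id, hf]) } }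
    refine ⟨colimit.desc (diag G) cc, ?_, fun {m} hm => ?_⟩
    · refine Scheme.Cover.hom_ext (goodCover hcov) _ _ fun j => ?_
      show j.1.ι ≫ P hcov ≫ _ = j.1.ι ≫ c.π
      rw [ι_P_assoc, ← hf j]
      exact congrArg (j.p ≫ ·) (colimit.ι_desc cc j)
    · refine colimit.hom_ext (F := diag G) fun (j : GoodOpen G) => j.good.hom_ext ?_
      erw [colimit.ι_desc]
      show j.p ≫ j.incl ≫ m = j.p ≫ f j
      rw [hf, ← ι_P_assoc hcov, ← hm]
      rfl

lemma isPullback_incl (j : GoodOpen G) : IsPullback j.p j.1.ι j.incl (P hcov) :=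
  IsOpenImmersion.isPullback _ _ _ _ (ι_P hcov j) (by
    ext x
    constructor
    · rintro ⟨z, hz⟩
      obtain ⟨y, rfl⟩ := j.good.surj.surj z
      rw [← P_apply hcov] at hz
      obtain ⟨r, hr₁, hr₂⟩ := (P_eq_iff hcov _ _).mp hz
      refine ⟨⟨x, ?_⟩, rfl⟩
      rw [← hr₂]; exact j.t_mem.mp (by rw [hr₁]; exact y.2)
    · rintro ⟨y, rfl⟩
      exact ⟨j.p y, (P_apply hcov j y).symm⟩)

lemma property_P (Pr : MorphismProperty Scheme.{u}) [IsZariskiLocalAtTarget Pr]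
    (h : ∀ j : GoodOpen G, Pr j.p) : Pr (P hcov) := by
  refine IsZariskiLocalAtTarget.of_openCover (P := Pr)
    (Scheme.IsLocallyDirected.openCover (diag G)) fun j => ?_
  have e := (isPullback_incl hcov j).flip
  have h' : Pr (e.isoPullback.inv ≫ j.p) :=
    (MorphismProperty.cancel_left_of_respectsIso Pr _ _).mpr (h j)
  rw [IsPullback.isoPullback_inv_snd] at h'
  exact h'

lemma universallyClosed_P : UniversallyClosed (P hcov) :=
  property_P hcov @UniversallyClosed fun j => j.good.uc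

lemma flat_P [hm : Mono G.j] : Flat (P hcov) := property_P hcov @Flat fun j => j.good.flat hm

lemma locallyOfFiniteType_desc [IsLocallyNoetherian S] (q : glued G ⟶ S) (hq : P hcov ≫ q = G.pU) :
    LocallyOfFiniteType q := by
  refine IsZariskiLocalAtSource.of_openCover (P := @LocallyOfFiniteType)
    (Scheme.IsLocallyDirected.openCover (diag G)) fun j => ?_
  show LocallyOfFiniteType (GoodOpen.incl j ≫ q)
  exact j.good.lft inferInstance _ (by rw [← ι_P_assoc hcov, hq])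

end Groth.Agent.GrpdLib.Cover4088
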