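import Groth.Agent.GrpdLib.Cover4088.Glue
import Groth.Agent.GrpdLib.Cover4088.FT
import Groth.Agent.GrpdLib.QSec6046.Main

/-!
# The quotient of a proper flat groupoid
-/

set_option autoImplicit false
set_option backward.isDefEq.respectTransparency false
set_option backward.isDefEq.respectTransparency.types false

universe u

open CategoryTheory CategoryTheory.Limits AlgebraicGeometry

noncomputable section

namespace Groth.Agent.GrpdLib.Cover4088

variable {S : Scheme.{u}} (G : Grpd.GroupoidScheme S)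

lemma mono_j_restrict [Mono G.j] (W : G.U.Opens) (hW : G.s ⁻¹ᵁ W = G.t ⁻¹ᵁ W) :
    Mono (restrict G W hW).j := by
  refine ⟨fun {T} a b e => (cancel_mono (G.s ⁻¹ᵁ W).ι).mp ((cancel_mono G.j).mp ?_)⟩
  apply pullback.hom_ext
  · have := congrArg (· ≫ pullback.fst _ _ ≫ W.ι) e
    simp only [Category.assoc, j_fst_assoc] at this
    rw [restrict_t, Scheme.Hom.resLE_comp_ι] at this
    simpa only [Category.assoc, j_fst] using this
  · have := congrArg (· ≫ pullback.snd _ _ ≫ W.ι) e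
    simp only [Category.assoc, j_snd_assoc] at this
    rw [restrict_s, morphismRestrict_ι] at this
    simpa only [Category.assoc, j_snd] using this

lemma locallyOfFiniteType_ι_comp {X Y : Scheme.{u}} (f : X ⟶ Y) [LocallyOfFiniteType f] (W : X.Opens) :
    LocallyOfFiniteType (W.ι ≫ f) := inferInstance

/-- A saturated open with a quasi-section has a good quotient. -/
theorem exists_isGood [IsProper G.s] [Flat G.s] [LocallyOfFinitePresentation G.s] [LocallyOfFiniteType G.pU]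
    (W : G.U.Opens) (hW : G.s ⁻¹ᵁ W = G.t ⁻¹ᵁ W) {U' : Scheme.{u}}
    (u : U' ⟶ (W : Scheme.{u})) [IsImmersion u]
    (h1 : Mor2.IsFinLocFree (pullback.fst (restrict G W hW).t u ≫ (restrict G W hW).s))
    (h1' : Surjective (pullback.fst (restrict G W hW).t u ≫ (restrict G W hW).s))
    (h2 : ∀ E : Set U', (∀ x ∈ E, ∀ y ∈ E, ∃ r : G.R,
        G.t.base r = (u ≫ W.ι).base x ∧ G.s.base r = (u ≫ W.ι).base y) →
      ∃ V : U'.Opens, IsAffineOpen V ∧ E ⊆ (V : Set U')) :
    ∃ (Y : Scheme.{u}) (p : (W : Scheme.{u}) ⟶ Y), IsGood G W.ι p := by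
  have : Flat (restrict G W hW).s := inferInstanceAs (Flat (G.s ∣_ W))
  have : IsProper (restrict G W hW).s :=
    IsZariskiLocalAtTarget.restrict (P := @IsProper) ‹IsProper G.s› W
  have : LocallyOfFinitePresentation (restrict G W hW).s :=
    IsZariskiLocalAtTarget.restrict (P := @LocallyOfFinitePresentation) ‹_› W
  have : Flat (restrict G W hW).t := t_property _ (P := @Flat) inferInstance
  have : UniversallyClosed (restrict G W hW).t := t_property _ (P := @UniversallyClosed) inferInstance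
  have h : IsQuasiSection (restrict G W hW) u :=
    { mono := inferInstanceAs (Mono u)
      fin := h1.1
      flat := h1.2.1
      lfp := h1.2.2
      surj := h1'
      aff := fun E hE => h2 E fun x hx y hy => by
        obtain ⟨r, hr₁, hr₂⟩ := hE x hx y hy
        refine ⟨(G.s ⁻¹ᵁ W).ι r, ?_, ?_⟩
        · show G.t ((G.s ⁻¹ᵁ W).ι r) = (u ≫ W.ι) x
          rw [← Scheme.Hom.comp_apply, ← Scheme.Hom.resLE_comp_ι G.t hW.le, Scheme.Hom.comp_apply,
            Scheme.Hom.comp_apply]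
          exact congrArg W.ι hr₁
        · show G.s ((G.s ⁻¹ᵁ W).ι r) = (u ≫ W.ι) y
          rw [← Scheme.Hom.comp_apply, ← morphismRestrict_ι G.s W, Scheme.Hom.comp_apply,
            Scheme.Hom.comp_apply]
          exact congrArg W.ι hr₂ }
  refine ⟨h.Y, h.p, isGQ_of_restrict W hW (isGQ_p h (isOpenMap_t _)), h.universallyClosed_p, ?_, ?_, ?_, ?_⟩
  · intro hm
    have := mono_j_restrict G W hW
    exact h.flat_p
  · intro hS q hq
    have : IsIntegralHom h.p' := isIntegralHom_quotMap h.orbitsInAffines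
    have : LocallyOfFiniteType (h.p' ≫ q) := by
      rw [← h.u_p, Category.assoc, hq]
      infer_instance
    exact locallyOfFiniteType_of_integral_injective h.p' q (isGQ_p' h).app_injective
  · intro T a b hab he z
    obtain ⟨r, hr⟩ := h.surjective_lift_p (pullback.lift a b hab z)
    refine ⟨(G.s ⁻¹ᵁ W).ι r, ?_⟩
    have hw : (pullback.fst h.p h.p ≫ W.ι) ≫ G.pU = (pullback.snd h.p h.p ≫ W.ι) ≫ G.pU := by
      obtain ⟨e₀, he₀⟩ := (isGQ_of_restrict W hW (isGQ_p h (isOpenMap_t _))).exists_desc _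
        (invMor_pU G W.ι)
      rw [Category.assoc, Category.assoc, ← he₀]
      exact pullback.condition_assoc e₀
    let m : pullback h.p h.p ⟶ pullback G.pU G.pU := pullback.lift _ _ hw
    have h₁ : (G.s ⁻¹ᵁ W).ι ≫ G.j = pullback.lift (restrict G W hW).t (restrict G W hW).s h.p_condition ≫ m := by
      apply pullback.hom_ext
      · rw [Category.assoc, j_fst, Category.assoc, pullback.lift_fst, pullback.lift_fst_assoc,
          restrict_t, Scheme.Hom.resLE_comp_ι]
      · rw [Category.assoc, j_snd, Category.assoc, pullback.lift_snd, pullback.lift_snd_assoc,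
          restrict_s, morphismRestrict_ι]
    have h₂ : pullback.lift (a ≫ W.ι) (b ≫ W.ι) he = pullback.lift a b hab ≫ m := by
      apply pullback.hom_ext <;> simp [m]
    rw [h₂, Scheme.Hom.comp_apply, ← hr, ← Scheme.Hom.comp_apply, ← Scheme.Hom.comp_apply]
    exact congrArg (fun k => k r) h₁
  · intro hm T a b hab
    have := mono_j_restrict G W hW
    refine ⟨h.isPullback_p.lift a b hab ≫ (G.s ⁻¹ᵁ W).ι, ?_, ?_⟩
    · rw [Category.assoc, ← Scheme.Hom.resLE_comp_ι G.t hW.le, ← Category.assoc]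
      exact congrArg (· ≫ W.ι) (h.isPullback_p.lift_fst a b hab)
    · rw [Category.assoc, ← morphismRestrict_ι G.s W, ← Category.assoc]
      exact congrArg (· ≫ W.ι) (h.isPullback_p.lift_snd a b hab)

/-- Every point specializes to a point closed in its fibre. -/
theorem exists_closedInFibre {X T : Scheme.{u}} (f : X ⟶ T) [QuasiCompact f] (x : X) :
    ∃ z, x ⤳ z ∧ Cut5230.IsClosedInFibre f z := by
  let ι := f.fiberι (f x)
  obtain ⟨ξ, hξ⟩ : ∃ ξ, ι ξ = x :=
    ⟨(f.fiberHomeo (f x)).symm ⟨x, rfl⟩, f.fiberι_fiberHomeo_symm (f x) ⟨x, rfl⟩⟩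
  obtain ⟨η, hη, hηc⟩ := (isClosed_closure (s := ({ξ} : Set (f.fiber (f x))))).exists_closed_singleton
    ⟨ξ, subset_closure rfl⟩
  refine ⟨ι η, ?_, fun x' hx' hp => ?_⟩
  · exact (specializes_of_eq hξ.symm).trans ((specializes_iff_mem_closure.mpr hη).map ι.continuous)
  have hp' : f x' = f x := hp.trans ((f.fiberHomeo (f x) η).2)
  obtain ⟨ζ, rfl⟩ : ∃ ζ, ι ζ = x' :=
    ⟨(f.fiberHomeo (f x)).symm ⟨x', hp'⟩, f.fiberι_fiberHomeo_symm (f x) ⟨x', hp'⟩⟩
  have : ζ ∈ closure ({η} : Set (f.fiber (f x))) := by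
    rw [ι.isEmbedding.isInducing.closure_eq_preimage_closure_image, Set.image_singleton]
    exact hx'
  rw [hηc.closure_eq, Set.mem_singleton_iff] at this
  rw [this]

/-- Good opens cover. -/
theorem exists_goodOpen [IsLocallyNoetherian S] [IsProper G.s] [Flat G.s]
    (hU : RelProj.IsQuasiProjective G.pU) [LocallyQuasiFinite G.j] (x : G.U) :
    ∃ j : GoodOpen G, x ∈ j.1 := by
  have := hU.1
  have := hU.2.1
  obtain ⟨z, hxz, hz⟩ := exists_closedInFibre G.pU x
  have : IsLocallyNoetherian G.U := LocallyOfFiniteType.isLocallyNoetherian G.pU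
  obtain ⟨W, hW, hzW, U', u, hu, h1, h1', h2⟩ := QSec6046.exists_quasiSection G hU z hz
  exact ⟨⟨W, hW.symm, exists_isGood G W hW.symm u h1 h1' h2⟩, hxz.mem_open W.2 hzW⟩

variable {G} (hcov : ∀ x : G.U, ∃ j : GoodOpen G, x ∈ j.1)
include hcov

/-- Every point of `U ×_Y U` comes from an arrow. -/
lemma surjective_lift_P : Function.Surjective (pullback.lift G.t G.s (P_condition hcov)) := by
  intro z
  obtain ⟨q, hq⟩ : ∃ q : glued G ⟶ S, P hcov ≫ q = G.pU :=
    ⟨(isColimitP hcov).desc (Cofork.ofπ G.pU (by rw [G.t_over, G.s_over])),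
      Cofork.IsColimit.π_desc (isColimitP hcov)⟩
  let Φ : pullback (P hcov) (P hcov) ⟶ pullback G.pU G.pU :=
    pullback.mapDesc (P hcov) (P hcov) q ≫ (pullback.congrHom hq hq).hom
  let a := pullback.fst (P hcov) (P hcov)
  let b := pullback.snd (P hcov) (P hcov)
  obtain ⟨j, hj⟩ := hcov (a z)
  have hb : Set.range ((a ⁻¹ᵁ j.1).ι ≫ b) ⊆ Set.range j.1.ι := by
    rintro _ ⟨⟨w, hw⟩, rfl⟩
    refine (Scheme.Opens.range_ι j.1).ge ?_
    obtain ⟨r, hr₁, hr₂⟩ := (P_eq_iff hcov (a w) (b w)).mp (by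
      rw [← Scheme.Hom.comp_apply, pullback.condition, Scheme.Hom.comp_apply])
    show b w ∈ j.1
    rw [← hr₂]
    exact j.t_mem.mp (by rw [hr₁]; exact hw)
  let b' := IsOpenImmersion.lift j.1.ι ((a ⁻¹ᵁ j.1).ι ≫ b) hb
  have hb' : b' ≫ j.1.ι = (a ⁻¹ᵁ j.1).ι ≫ b := IsOpenImmersion.lift_fac _ _ _
  have ha' : (a ∣_ j.1) ≫ j.1.ι = (a ⁻¹ᵁ j.1).ι ≫ a := morphismRestrict_ι _ _
  have hab : (a ∣_ j.1) ≫ j.p = b' ≫ j.p := by
    rw [← cancel_mono j.incl, Category.assoc, Category.assoc, ← ι_P hcov, reassoc_of% ha',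
      reassoc_of% hb', pullback.condition]
  have hΦ : (a ⁻¹ᵁ j.1).ι ≫ Φ = pullback.lift ((a ∣_ j.1) ≫ j.1.ι) (b' ≫ j.1.ι) (by
      rw [ha', hb', ← hq, Category.assoc, Category.assoc, pullback.condition_assoc]) := by
    apply pullback.hom_ext
    · simp [Φ, a, ha']
    · simp [Φ, a, b, hb']
  obtain ⟨r, hr⟩ := j.good.jRange (a ∣_ j.1) b' hab (by
    rw [ha', hb', ← hq, Category.assoc, Category.assoc, pullback.condition_assoc]) ⟨z, hj⟩
  refine ⟨r, ?_⟩
  have : IsImmersion Φ := inferInstanceAs (IsImmersion (_ ≫ _))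
  refine Φ.isEmbedding.injective ?_
  rw [← Scheme.Hom.comp_apply]
  have e : pullback.lift G.t G.s (P_condition hcov) ≫ Φ = G.j := by
    apply pullback.hom_ext <;> simp [Φ]
  rw [e, hr, ← hΦ, Scheme.Hom.comp_apply]
  rfl

/-- For an equivalence relation `R = U ×_Y U`. -/
theorem isPullback_P [Mono G.j] :
    IsPullback G.t G.s (P hcov) (P hcov) := by
  have hext : ∀ {T : Scheme.{u}} {r r' : T ⟶ G.R}, r ≫ G.t = r' ≫ G.t → r ≫ G.s = r' ≫ G.s →
      r = r' := by
    intro T r r' ht hs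
    rw [← cancel_mono G.j]
    apply pullback.hom_ext
    · simpa using ht
    · simpa using hs
  have hex : ∀ {T : Scheme.{u}} (a b : T ⟶ G.U), a ≫ P hcov = b ≫ P hcov →
      ∃ r : T ⟶ G.R, r ≫ G.t = a ∧ r ≫ G.s = b := by
    intro T a b hab
    have hloc : ∀ j : GoodOpen G, ∃ r : (a ⁻¹ᵁ j.1).toScheme ⟶ G.R,
        r ≫ G.t = (a ⁻¹ᵁ j.1).ι ≫ a ∧ r ≫ G.s = (a ⁻¹ᵁ j.1).ι ≫ b := by
      intro j
      have hb : Set.range ((a ⁻¹ᵁ j.1).ι ≫ b) ⊆ Set.range j.1.ι := by
        rintro _ ⟨⟨z, hz⟩, rfl⟩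
        refine (Scheme.Opens.range_ι j.1).ge ?_
        obtain ⟨r, hr₁, hr₂⟩ := (P_eq_iff hcov (a z) (b z)).mp (by
          rw [← Scheme.Hom.comp_apply, hab, Scheme.Hom.comp_apply])
        show b z ∈ j.1
        rw [← hr₂]
        exact j.t_mem.mp (by rw [hr₁]; exact hz)
      let a' : (a ⁻¹ᵁ j.1).toScheme ⟶ (j.1 : Scheme.{u}) := a ∣_ j.1
      let b' := IsOpenImmersion.lift j.1.ι ((a ⁻¹ᵁ j.1).ι ≫ b) hb
      have hb' : b' ≫ j.1.ι = (a ⁻¹ᵁ j.1).ι ≫ b := IsOpenImmersion.lift_fac _ _ _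
      have ha' : a' ≫ j.1.ι = (a ⁻¹ᵁ j.1).ι ≫ a := morphismRestrict_ι _ _
      obtain ⟨r, hr₁, hr₂⟩ := j.good.pb inferInstance a' b' (by
        rw [← cancel_mono j.incl, Category.assoc, Category.assoc, ← ι_P hcov, reassoc_of% ha',
          reassoc_of% hb', hab])
      exact ⟨r, hr₁.trans ha', hr₂.trans hb'⟩
    choose r hr₁ hr₂ using hloc
    let 𝒰 : T.OpenCover := T.openCoverOfIsOpenCover (fun j : GoodOpen G => a ⁻¹ᵁ j.1)
      (TopologicalSpace.IsOpenCover.mk (eq_top_iff.mpr fun z _ =>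
        TopologicalSpace.Opens.mem_iSup.mpr (hcov (a z))))
    have hagree : ∀ i j : GoodOpen G, pullback.fst (𝒰.f i) (𝒰.f j) ≫ r i =
        pullback.snd (𝒰.f i) (𝒰.f j) ≫ r j := fun i j =>
      hext (by rw [Category.assoc, Category.assoc, hr₁, hr₁]; exact pullback.condition_assoc a)
        (by rw [Category.assoc, Category.assoc, hr₂, hr₂]; exact pullback.condition_assoc b)
    refine ⟨𝒰.glueMorphisms r hagree, ?_, ?_⟩
    · refine Scheme.Cover.hom_ext 𝒰 _ _ fun j => ?_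
      rw [Scheme.Cover.ι_glueMorphisms_assoc, hr₁]; rfl
    · refine Scheme.Cover.hom_ext 𝒰 _ _ fun j => ?_
      rw [Scheme.Cover.ι_glueMorphisms_assoc, hr₂]; rfl
  refine ⟨⟨P_condition hcov⟩, ⟨PullbackCone.isLimitAux' _ fun c => ?_⟩⟩
  refine ⟨(hex c.fst c.snd c.condition).choose, (hex c.fst c.snd c.condition).choose_spec.1,
    (hex c.fst c.snd c.condition).choose_spec.2, fun {m} h₁ h₂ => ?_⟩
  exact hext (h₁.trans (hex c.fst c.snd c.condition).choose_spec.1.symm)
    (h₂.trans (hex c.fst c.snd c.condition).choose_spec.2.symm)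

end Groth.Agent.GrpdLib.Cover4088
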